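import Groth.Agent.H84PerfPic.Main
import Groth.Agent.AmpleX.Pow
import Groth.Agent.LimMor.Chevalley

/-!
# Ampleness descends along perfections
-/

universe u

open CategoryTheory Limits AlgebraicGeometry Opposite TopologicalSpace

set_option backward.isDefEq.respectTransparency false
set_option backward.isDefEq.respectTransparency.types false

namespace Groth.Agent.H84PerfPic

open Groth.Agent Groth.Agent.AModX Groth.Agent.InvX Groth.Agent.H23
open scoped Groth.Agent.H23.PicMul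

variable {p : ℕ} [hp : Fact p.Prime] {X XP : Scheme.{u}} [FrobSch.IsCharP X p] [FrobSch.IsCharP XP p]
  {π : XP ⟶ X}

theorem locus_one {Y : Scheme.{u}} {M : Y.Modules} (s : Coh.structureModule Y ⟶ M) :
    TrivBasic.locus (one s) = CohB1.genLocus M s := by
  refine Opens.ext (Set.ext fun x => ⟨fun hx => ?_, fun hx => ?_⟩)
  · obtain ⟨U, hU, h⟩ := TrivBasic.mem_locus_iff.1 hx
    exact le_genLocus s h hU
  · obtain ⟨U, hU, h⟩ := mem_genLocus hx
    exact TrivBasic.mem_locus_iff.2 ⟨U, hU, h⟩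

theorem cl_pullback_tensorPow {Y Z : Scheme.{u}} (f : Z ⟶ Y) (L : Y.Modules) (m : ℕ) :
    PicF.cl ((Scheme.Modules.pullback f).obj (CohB1.tensorPow L m)) =
      PicF.cl (CohB1.tensorPow ((Scheme.Modules.pullback f).obj L) m) := by
  rw [PicMul.cl_tensorPow]
  show PicF.pullCl f (PicF.cl (CohB1.tensorPow L m)) = PicF.pullCl f (PicF.cl L) ^ m
  rw [PicMul.cl_tensorPow, PicMul.pullCl_pow]

theorem isAmple_pullback {Y Z : Scheme.{u}} (f : Z ⟶ Y) [IsAffineHom f] [CompactSpace Z] {L : Y.Modules}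
    (h : CohB1.IsAmple L) : CohB1.IsAmple ((Scheme.Modules.pullback f).obj L) := by
  refine ⟨PicClLib.isInvertible_pullback f h.1, inferInstance, fun z => ?_⟩
  obtain ⟨n, s, hz, hs⟩ := h.2.2 (f z)
  obtain ⟨e⟩ := PicClLib.nonempty_pullback_structureModule f
  have hg := InvX.genLocus_pullback f (InvX.isInvertible_tensorPow h.1 (n + 1)) s e.symm
  obtain ⟨t, ht⟩ := AmpleX.exists_section_of_cl_eq (cl_pullback_tensorPow f L (n + 1))
    (e.symm.hom ≫ (Scheme.Modules.pullback f).map s)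
  rw [hg] at ht
  exact ⟨n, t, ht.symm ▸ hz, ht.symm ▸ hs.preimage f⟩

/-- A power of a section over the perfection comes from the base. -/
theorem exists_section_descend [CompactSpace X] [QuasiSeparatedSpace X] (h : FrobSch.IsPerfection π p)
    {L : X.Modules} (hL : PicF.IsInvertible L) (t : Γ((Scheme.Modules.pullback π).obj L, ⊤)) :
    ∃ (n : ℕ) (s : Γ(CohB1.tensorPow L (p ^ n), ⊤)), π ⁻¹ᵁ TrivBasic.locus s = TrivBasic.locus t := by
  classical
  have hloc : ∀ x : X, ∃ W : X.Opens, IsAffineOpen W ∧ x ∈ W ∧ ∃ e : Γ(L, W), IsFrame e := fun x => by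
    obtain ⟨U, hxU, e, he⟩ := exists_frame hL x
    obtain ⟨_, ⟨W, hW, rfl⟩, hxW, hWU⟩ := X.isBasis_affineOpens.exists_subset_of_mem_open hxU U.2
    exact ⟨W, hW, hxW, res L hWU e, he.res hWU⟩
  choose W hW hxW e he using hloc
  obtain ⟨T, hT⟩ := isCompact_univ.elim_finite_subcover (fun x => (W x : Set X)) (fun x => (W x).2)
    fun x _ => Set.mem_iUnion.2 ⟨x, hxW x⟩
  let J : Type u := {x // x ∈ T}
  have hcovT : ∀ x, ∃ a : J, x ∈ W a.1 := fun x => by
    obtain ⟨a, ha⟩ := Set.mem_iUnion.1 (hT (Set.mem_univ x))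
    obtain ⟨ha', hx⟩ := Set.mem_iUnion.1 ha
    exact ⟨⟨a, ha'⟩, hx⟩
  choose c hc using fun a : J => (isFrame_pullElt π (he a.1)).exists_coord le_rfl
    (res _ (le_top : π ⁻¹ᵁ W a.1 ≤ ⊤) t)
  simp only [res_self] at hc
  choose m r hr using fun a : J => H9Misc.PerfSchLib.exists_pow_eq h (hW a.1) (c a)
  obtain ⟨N, hN⟩ : ∃ N, ∀ a, m a ≤ N := ⟨Finset.univ.sup m, fun a => Finset.le_sup (Finset.mem_univ a)⟩
  let r' : ∀ a : J, Γ(X, W a.1) := fun a => r a ^ p ^ (N - m a)
  have hr' : ∀ a, π.app _ (r' a) = c a ^ p ^ N := fun a => by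
    show π.app _ (r a ^ _) = _
    rw [map_pow, hr, ← pow_mul, ← pow_add, Nat.add_sub_cancel' (hN a)]
  choose g hg using fun a b : J => ((he b.1).res (inf_le_right : W a.1 ⊓ W b.1 ≤ W b.1)).exists_coord le_rfl
    (res L inf_le_left (e a.1))
  simp only [res_self] at hg
  let d : ∀ a b : J, Γ(X, W a.1 ⊓ W b.1) := fun a b =>
    resR inf_le_left (r' a) * g a b ^ p ^ N - resR inf_le_right (r' b)
  have hd : ∀ a b, π.app _ (d a b) = 0 := fun a b => by
    have hl : W a.1 ⊓ W b.1 ≤ W a.1 := inf_le_left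
    have hri : W a.1 ⊓ W b.1 ≤ W b.1 := inf_le_right
    have happ : ∀ {U : X.Opens} (hh : W a.1 ⊓ W b.1 ≤ U) (s : Γ(X, U)),
        π.app _ (resR hh s) = resR (π.preimage_mono hh) (π.app U s) := fun hh s =>
      ConcreteCategory.congr_hom (π.naturality (homOfLE hh).op) s
    show π.app _ (_ * _ - _) = _
    rw [map_sub, map_mul, happ hri, happ hl, hr', hr', map_pow, map_pow, map_pow, ← mul_pow, sub_eq_zero]
    refine congrArg (· ^ p ^ N) ?_
    refine ((isFrame_pullElt π (he b.1)).coord_unique (π.preimage_mono hri) ?_)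
    rw [mul_smul]
    have ha := congrArg (res _ (π.preimage_mono hl)) (hc a)
    have hb := congrArg (res _ (π.preimage_mono hri)) (hc b)
    rw [res_smul, res_res] at ha hb
    rw [res_pullElt π hl, hg, pullElt_smul, ← res_pullElt π hri] at ha
    exact ha.symm.trans hb
  have hnil : ∀ a b, ∃ k, d a b ^ p ^ k = 0 := fun a b => by
    obtain ⟨k, hk⟩ := app_eq_zero_isNilpotent h
      (QuasiSeparatedSpace.inter_isCompact _ _ (W a.1).2 (hW a.1).isCompact (W b.1).2 (hW b.1).isCompact) _ (hd a b)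
    exact ⟨k, pow_eq_zero_of_le (Nat.lt_pow_self hp.out.one_lt).le hk⟩
  choose k hk using hnil
  obtain ⟨K, hK⟩ : ∃ K, ∀ a b, k a b ≤ K :=
    ⟨Finset.univ.sup fun ab : J × J => k ab.1 ab.2, fun a b =>
      Finset.le_sup (f := fun ab : J × J => k ab.1 ab.2) (Finset.mem_univ (a, b))⟩
  have heq : ∀ a b, (resR inf_le_left (r' a) * g a b ^ p ^ N) ^ p ^ K = resR inf_le_right (r' b) ^ p ^ K :=
    fun a b => by
    have h0 : d a b ^ p ^ K = 0 := pow_eq_zero_of_le (Nat.pow_le_pow_right hp.out.pos (hK a b)) (hk a b)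
    have h2 := H9Misc.PerfSchLib.powHom_iterate (FrobSch.natCast_eq_zero_app X p _) K (d a b)
      (resR inf_le_right (r' b))
    rwa [h0, zero_add, sub_add_cancel] at h2
  let sf : ∀ a : J, Γ(CohB1.tensorPow L (p ^ (N + K)), W a.1) := fun a =>
    (r' a ^ p ^ K) • H84FrobPow.powElt (e a.1) (p ^ (N + K))
  obtain ⟨s, hs, -⟩ := existsUnique_glue (M := CohB1.tensorPow L (p ^ (N + K))) (V := ⊤) (fun a : J => W a.1)
    (fun _ => le_top) (fun x _ => hcovT x) sf (fun a b => by
      rw [res_smul, res_smul, H84FrobPow.res_powElt, H84FrobPow.res_powElt, hg, H84FrobPow.powElt_smul, smul_smul]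
      refine congrArg (· • _) ?_
      rw [map_pow (resR _) (r' a), map_pow (resR _) (r' b), ← heq, mul_pow, ← pow_mul, ← pow_add])
  refine ⟨N + K, s, Opens.ext (Set.ext fun y => ?_)⟩
  obtain ⟨a, ha⟩ := hcovT (π y)
  have hy : y ∈ π ⁻¹ᵁ W a.1 := ha
  have h1 := TrivBasic.locus_eq_basicOpen (H84FrobPow.isFrame_powElt (he a.1) (p ^ (N + K))) (hs a)
  have h2 := TrivBasic.locus_eq_basicOpen (isFrame_pullElt π (he a.1)) (hc a)
  have h3 : π ⁻¹ᵁ X.basicOpen (r' a ^ p ^ K) = XP.basicOpen (c a) := by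
    rw [Scheme.preimage_basicOpen, map_pow, hr', ← pow_mul]
    exact XP.basicOpen_pow _ (Nat.mul_pos (pow_pos hp.out.pos _) (pow_pos hp.out.pos _))
  rw [← h1, ← h2] at h3
  have h4 := congrArg (fun V : XP.Opens => y ∈ V) h3
  simp only [Scheme.Hom.preimage_inf, Opens.mem_inf, hy, and_true, eq_iff_iff] at h4
  exact h4

theorem isAmple_of_pullback [CompactSpace X] [QuasiSeparatedSpace X] (h : FrobSch.IsPerfection π p)
    {L : X.Modules} (hL : PicF.IsInvertible L) (hA : CohB1.IsAmple ((Scheme.Modules.pullback π).obj L)) :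
    CohB1.IsAmple L := by
  refine AmpleX.isAmple_iff.2 ⟨hL, inferInstance, fun x => ?_⟩
  obtain ⟨y, rfl⟩ := (H9Misc.PerfSchLib.surjective p π h).surj x
  obtain ⟨-, -, hA⟩ := AmpleX.isAmple_iff.1 hA
  obtain ⟨m, hm, t, hyt, ht⟩ := hA y
  have hcl : PicF.cl (CohB1.tensorPow ((Scheme.Modules.pullback π).obj L) m) =
      PicF.cl ((Scheme.Modules.pullback π).obj (CohB1.tensorPow L m)) := (cl_pullback_tensorPow π L m).symm
  obtain ⟨t', ht'⟩ := AmpleX.exists_section_of_cl_eq hcl t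
  obtain ⟨n, s, hs⟩ := exists_section_descend h (InvX.isInvertible_tensorPow hL m) (one t')
  rw [locus_one, ht'] at hs
  obtain ⟨s', hs'⟩ := AmpleX.exists_section_of_cl_eq (B := CohB1.tensorPow L (m * p ^ n))
    (by simp only [PicMul.cl_tensorPow, ← pow_mul]) (ofSect s)
  refine ⟨m * p ^ n, Nat.mul_pos hm (pow_pos hp.out.pos _), s', ?_, ?_⟩
  · rw [hs']
    show y ∈ π ⁻¹ᵁ TrivBasic.locus s
    rw [hs]
    exact hyt
  · rw [hs']
    show IsAffineOpen (TrivBasic.locus s)
    haveI : IsAffine (π ⁻¹ᵁ TrivBasic.locus s).toScheme := by rw [hs]; exact ht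
    obtain ⟨hπi, hπu, hπs⟩ := MorLib.isUnivHomeo_iff.1 (H9Misc.PerfSchLib.isUnivHomeo h)
    haveI := hπi
    haveI : Surjective π := H9Misc.PerfSchLib.surjective p π h
    haveI : Surjective (π ∣_ TrivBasic.locus s) := IsZariskiLocalAtTarget.restrict (P := @Surjective) inferInstance _
    haveI : UniversallyClosed (π ∣_ TrivBasic.locus s) :=
      IsZariskiLocalAtTarget.restrict (P := @UniversallyClosed) inferInstance _
    exact LimMor.isAffine_of_surjective_universallyClosed (π ∣_ TrivBasic.locus s)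

theorem isAmple_iff_pullback [CompactSpace X] [QuasiSeparatedSpace X] (h : FrobSch.IsPerfection π p)
    {L : X.Modules} (hL : PicF.IsInvertible L) :
    CohB1.IsAmple L ↔ CohB1.IsAmple ((Scheme.Modules.pullback π).obj L) := by
  haveI := H9Misc.PerfSchLib.isAffineHom p h
  haveI : CompactSpace XP := QuasiCompact.compactSpace_of_compactSpace π
  exact ⟨fun hA => isAmple_pullback π hA, isAmple_of_pullback h hL⟩

end Groth.Agent.H84PerfPic
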