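import Groth.Agent.H84FrobPow.Pullback
import Groth.Agent.H84PerfApprox.Basic
import Groth.Agent.H23.TrivBasic
import Groth.Agent.PicFRel.InvApprox

/-!
# Picard classes of perfections
-/

universe u

open CategoryTheory Limits AlgebraicGeometry Opposite TopologicalSpace

set_option backward.isDefEq.respectTransparency false
set_option backward.isDefEq.respectTransparency.types false

namespace Groth.Agent.H84PerfPic

open Groth.Agent Groth.Agent.AModX Groth.Agent.InvX Groth.Agent.H23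

variable {p : ℕ} [hp : Fact p.Prime] {X XP : Scheme.{u}} [FrobSch.IsCharP X p] [FrobSch.IsCharP XP p]
  {π : XP ⟶ X}

theorem pullCl_pw {L : X.Modules} (hL : PicF.IsInvertible L) (n : ℕ) :
    PicF.pullCl (H84FrobPow.pw (p := p) X n) (PicF.cl L) = PicF.cl (CohB1.tensorPow L (p ^ n)) :=
  PicMul.cl_eq_iff.2 (H84FrobPow.nonempty_pullback_iso hL n)

theorem isIso_pw (h : FrobSch.IsPerfect XP p) (n : ℕ) : IsIso (H84FrobPow.pw (p := p) XP n) := by
  haveI : IsIso (FrobSch.frob XP p) := h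
  induction n with
  | zero => rw [H84FrobPow.pw_zero]; infer_instance
  | succ n ih => rw [H84FrobPow.pw_succ]; infer_instance

theorem isTrivialCl_pullCl (h : FrobSch.IsPerfection π p) {L : X.Modules} (hL : PicF.IsInvertible L) {n : ℕ}
    (hn : PicF.IsTrivialCl (PicF.cl (CohB1.tensorPow L (p ^ n)))) :
    PicF.IsTrivialCl (PicF.pullCl π (PicF.cl L)) := by
  haveI := isIso_pw (p := p) h.1 n
  let f := H84FrobPow.pw (p := p) XP n
  have h1 : PicF.pullCl f (PicF.pullCl π (PicF.cl L)) = PicF.cl (Coh.structureModule XP) := by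
    rw [PicClLib.pullCl_comp, H84FrobPow.pw_comp (p := p) π n, ← PicClLib.pullCl_comp, pullCl_pw hL,
      show PicF.cl (CohB1.tensorPow L (p ^ n)) = PicF.cl (Coh.structureModule X) from hn]
    exact PicMul.pullCl_one π
  show PicF.pullCl π (PicF.cl L) = _
  rw [← PicClLib.pullCl_id (PicF.pullCl π (PicF.cl L)), ← IsIso.inv_hom_id f, ← PicClLib.pullCl_comp, h1]
  exact PicMul.pullCl_one (inv f)

theorem app_eq_zero_isNilpotent (h : FrobSch.IsPerfection π p) {U : X.Opens} (hU : IsCompact (U : Set X))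
    (r : Γ(X, U)) (hr : π.app U r = 0) : IsNilpotent r := by
  rw [Scheme.isNilpotent_iff_basicOpen_eq_bot_of_isCompact hU]
  ext x
  refine ⟨fun hx => ?_, False.elim⟩
  obtain ⟨y, rfl⟩ := (H9Misc.PerfSchLib.surjective p π h).surj x
  have hy : y ∈ π ⁻¹ᵁ X.basicOpen r := hx
  rw [Scheme.preimage_basicOpen, hr, Scheme.basicOpen_zero] at hy
  exact hy

theorem isUnit_of_isUnit_app (h : FrobSch.IsPerfection π p) {U : X.Opens} (r : Γ(X, U))
    (hr : IsUnit (π.app U r)) : IsUnit r := by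
  rw [← resR_self r]
  refine isUnit_resR _ r fun x hx => ?_
  obtain ⟨y, rfl⟩ := (H9Misc.PerfSchLib.surjective p π h).surj x
  have : y ∈ π ⁻¹ᵁ X.basicOpen r := by
    rw [Scheme.preimage_basicOpen, Scheme.basicOpen_of_isUnit _ hr]
    exact hx
  exact this

theorem exists_trivial_power [CompactSpace X] [QuasiSeparatedSpace X] (h : FrobSch.IsPerfection π p)
    {L : X.Modules} (hL : PicF.IsInvertible L) (hπ : PicF.IsTrivialCl (PicF.pullCl π (PicF.cl L))) :
    ∃ n : ℕ, PicF.IsTrivialCl (PicF.cl (CohB1.tensorPow L (p ^ n))) := by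
  classical
  obtain ⟨e₀, he₀⟩ := TrivBasic.Triv.exists_frame (PicMul.cl_eq_iff.1 hπ)
  have hloc : ∀ x : X, ∃ W : X.Opens, IsAffineOpen W ∧ x ∈ W ∧ ∃ e : Γ(L, W), IsFrame e := fun x => by
    obtain ⟨U, hxU, e, he⟩ := exists_frame hL x
    obtain ⟨_, ⟨W, hW, rfl⟩, hxW, hWU⟩ := X.isBasis_affineOpens.exists_subset_of_mem_open hxU U.2
    exact ⟨W, hW, hxW, res L hWU e, he.res hWU⟩
  choose W hW hxW e he using hloc
  obtain ⟨T, hT⟩ := isCompact_univ.elim_finite_subcover (fun x => (W x : Set X)) (fun x => (W x).2)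
    fun x _ => Set.mem_iUnion.2 ⟨x, hxW x⟩
  let J := {x // x ∈ T}
  have hcovT : ∀ x, ∃ a : J, x ∈ W a.1 := fun x => by
    obtain ⟨a, ha⟩ := Set.mem_iUnion.1 (hT (Set.mem_univ x))
    obtain ⟨ha', hx⟩ := Set.mem_iUnion.1 ha
    exact ⟨⟨a, ha'⟩, hx⟩
  -- units comparing the local frames with the global one
  choose u hu using fun a : J => (he₀.res (le_top : π ⁻¹ᵁ W a.1 ≤ ⊤)).exists_coord le_rfl (pullElt π (e a.1))
  simp only [res_self] at hu
  have huu : ∀ a, IsUnit (u a) := fun a => by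
    obtain ⟨v, hv⟩ := (isFrame_pullElt π (he a.1)).exists_coord le_rfl (res _ (le_top : π ⁻¹ᵁ W a.1 ≤ ⊤) e₀)
    rw [res_self, hu a, smul_smul] at hv
    refine IsUnit.of_mul_eq_one v ((he₀.res (le_top : π ⁻¹ᵁ W a.1 ≤ ⊤)).coord_unique le_rfl ?_)
    rw [res_self, one_smul, mul_comm, ← hv]
  choose m r hr using fun a : J => H9Misc.PerfSchLib.exists_pow_eq h (hW a.1) (u a)
  obtain ⟨N, hN⟩ : ∃ N, ∀ a, m a ≤ N := ⟨Finset.univ.sup m, fun a => Finset.le_sup (Finset.mem_univ a)⟩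
  let r' : ∀ a : J, Γ(X, W a.1) := fun a => r a ^ p ^ (N - m a)
  have hr' : ∀ a, π.app _ (r' a) = u a ^ p ^ N := fun a => by
    show π.app _ (r a ^ _) = _
    rw [map_pow, hr, ← pow_mul, ← pow_add, Nat.add_sub_cancel' (hN a)]
  have hr'u : ∀ a, IsUnit (r' a) := fun a => isUnit_of_isUnit_app h _ (by rw [hr']; exact (huu a).pow _)
  choose g hg using fun a b : J => ((he b.1).res (inf_le_right : W a.1 ⊓ W b.1 ≤ W b.1)).exists_coord le_rfl
    (res L inf_le_left (e a.1))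
  simp only [res_self] at hg
  let d : ∀ a b : J, Γ(X, W a.1 ⊓ W b.1) := fun a b =>
    g a b ^ p ^ N * resR inf_le_right (r' b) - resR inf_le_left (r' a)
  have hd : ∀ a b, π.app _ (d a b) = 0 := fun a b => by
    have hl : W a.1 ⊓ W b.1 ≤ W a.1 := inf_le_left
    have hri : W a.1 ⊓ W b.1 ≤ W b.1 := inf_le_right
    have happ : ∀ {U : X.Opens} (hh : W a.1 ⊓ W b.1 ≤ U) (s : Γ(X, U)),
        π.app _ (resR hh s) = resR (π.preimage_mono hh) (π.app U s) := fun hh s =>
      ConcreteCategory.congr_hom (π.naturality (homOfLE hh).op) s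
    show π.app _ (_ * _ - _) = _
    rw [map_sub, map_mul, map_pow, happ hri, happ hl, hr', hr', map_pow, map_pow, ← mul_pow, sub_eq_zero]
    refine congrArg (· ^ p ^ N) ?_
    refine ((he₀.res (le_top : π ⁻¹ᵁ (W a.1 ⊓ W b.1) ≤ ⊤)).coord_unique le_rfl ?_)
    rw [res_self, mul_smul]
    have ha := congrArg (res _ (π.preimage_mono hl)) (hu a)
    have hb := congrArg (res _ (π.preimage_mono hri)) (hu b)
    rw [res_smul, res_res] at ha hb
    refine Eq.trans ?_ ha
    rw [res_pullElt π hl, ← hb, res_pullElt π hri, ← pullElt_smul, hg]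
  have hnil : ∀ a b, ∃ k, d a b ^ p ^ k = 0 := fun a b => by
    obtain ⟨k, hk⟩ := app_eq_zero_isNilpotent h
      (QuasiSeparatedSpace.inter_isCompact _ _ (W a.1).2 (hW a.1).isCompact (W b.1).2 (hW b.1).isCompact) _ (hd a b)
    exact ⟨k, pow_eq_zero_of_le (Nat.lt_pow_self hp.out.one_lt).le hk⟩
  choose k hk using hnil
  obtain ⟨K, hK⟩ : ∃ K, ∀ a b, k a b ≤ K :=
    ⟨Finset.univ.sup fun ab : J × J => k ab.1 ab.2, fun a b =>
      Finset.le_sup (f := fun ab : J × J => k ab.1 ab.2) (Finset.mem_univ (a, b))⟩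
  have heq : ∀ a b, (g a b ^ p ^ N * resR inf_le_right (r' b)) ^ p ^ K = resR inf_le_left (r' a) ^ p ^ K :=
    fun a b => by
    have h0 : d a b ^ p ^ K = 0 := pow_eq_zero_of_le (Nat.pow_le_pow_right hp.out.pos (hK a b)) (hk a b)
    have h2 := H9Misc.PerfSchLib.powHom_iterate (FrobSch.natCast_eq_zero_app X p _) K (d a b)
      (resR inf_le_left (r' a))
    rwa [h0, zero_add, sub_add_cancel] at h2
  refine ⟨N + K, PicMul.cl_eq_iff.2 ?_⟩
  refine AbSchX.CubeBase.iso_of_frames (fun a : J => W a.1) hcovT (fun a => H84FrobPow.powElt (e a.1) (p ^ (N + K)))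
    (fun a => H84FrobPow.isFrame_powElt (he a.1) _)
    (fun a => (r' a ^ p ^ K) • (show Γ(Coh.structureModule X, W a.1) from (1 : Γ(X, W a.1))))
    (fun a => (isFrame_one _).isUnit_smul ((hr'u a).pow _)) fun a b => ⟨g a b ^ p ^ (N + K), ?_, ?_⟩
  · rw [H84FrobPow.res_powElt, H84FrobPow.res_powElt, ← H84FrobPow.powElt_smul, hg]
  · rw [res_smul, res_smul, smul_smul]
    refine congrArg₂ (· • ·) ?_ ((map_one (resR (inf_le_left : W a.1 ⊓ W b.1 ≤ W a.1))).trans (map_one (resR (inf_le_right : W a.1 ⊓ W b.1 ≤ W b.1))).symm)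
    show resR _ (r' a ^ p ^ K) = g a b ^ p ^ (N + K) * resR _ (r' b ^ p ^ K)
    rw [map_pow (resR _) (r' a), map_pow (resR _) (r' b), ← heq, mul_pow, ← pow_mul, ← pow_add]

theorem exists_tensorPow_eq [CompactSpace X] [QuasiSeparatedSpace X] (h : FrobSch.IsPerfection π p)
    (M : XP.Modules) (hM : PicF.IsInvertible M) :
    ∃ (n : ℕ) (L : X.Modules), PicF.IsInvertible L ∧
      PicF.cl (CohB1.tensorPow M (p ^ n)) = PicF.pullCl π (PicF.cl L) := by
  obtain ⟨c, hc, hcp, hP, hπn, -⟩ := H84PerfApprox.exists_tower_perfection p X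
  haveI := hcp
  obtain ⟨E, hE⟩ := H9Misc.PerfSchLib.exists_iso p h hP
  haveI : ∀ i, CompactSpace ((H9Misc.PerfSchLib.tower p X).obj i) := fun _ => ‹CompactSpace X›
  haveI : ∀ i, QuasiSeparatedSpace ((H9Misc.PerfSchLib.tower p X).obj i) := fun _ => ‹QuasiSeparatedSpace X›
  obtain ⟨i, L, hL, ⟨φ⟩⟩ := PicFRel.InvApprox.exists_invertible_stage hc
    ((Scheme.Modules.pullback E.inv).obj M) (PicClLib.isInvertible_pullback E.inv hM)
  obtain ⟨n, rfl⟩ : ∃ n : ℕ, i = op (ULift.up n) := ⟨i.unop.down, rfl⟩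
  let πn : c.pt ⟶ X := c.π.app (op (ULift.up n))
  have hπ0 : ∀ k, (c.π.app (op (ULift.up k)) : c.pt ⟶ X) ≫ H84FrobPow.pw (p := p) X k = c.π.app (op (ULift.up 0)) :=
    fun k => by
    induction k with
    | zero => exact Category.comp_id _
    | succ k ih => rw [H84FrobPow.pw_succ, H84FrobPow.pw_comp, ← Category.assoc, hπn, ih]
  refine ⟨n, L, hL, ?_⟩
  have hMeq : PicF.cl M = PicF.pullCl (E.hom ≫ πn) (PicF.cl L) := by
    rw [← PicClLib.pullCl_comp, show PicF.pullCl πn (PicF.cl L) = PicF.pullCl E.inv (PicF.cl M) from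
      PicMul.cl_eq_iff.2 ⟨φ⟩, PicClLib.pullCl_comp, Iso.hom_inv_id, PicClLib.pullCl_id]
  rw [← pullCl_pw (p := p) hM n, hMeq, PicClLib.pullCl_comp, H84FrobPow.pw_comp (p := p) (E.hom ≫ πn) n,
    Category.assoc, hπ0, hE]

end Groth.Agent.H84PerfPic
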